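import Cfsg.Agent.Lib.Walter.NoField.Interface
import Cfsg.Agent.Lib.Walter.NoField.Transfer
import Cfsg.Agent.Lib.Walter.NoField.Section
import Cfsg.Agent.Lib.Walter.KnownFacts

/-!
# Section Z: the index `|C(x) : C(x, u)|` for `1 ≠ x ∈ F`

With `q₀` the order of the field fixed by `x` and `q = q₀ ^ o(x)`: the index is 7 or 63 (`q₀ = 3`),
1463 (`q₀ = 5`), or `q₀² (q₀² - q₀ + 1)` (`q₀ = 3 ^ odd`), by the structure of the component of
`C(x)/⟨x⟩`; it is the number of involutions of that component.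

Owner: helper87.
-/

set_option autoImplicit false
set_option linter.style.haveILetI false
set_option linter.unusedSectionVars false

universe u

namespace Cfsg.Agent.Lib.Walter.NoField.Small

open Subgroup JRCore

variable {G : Type u} [Group G] [Finite G] {S : Sylow 2 G} {t : G} {E E₀ : Subgroup G}

/-- A normal subgroup of `C(x)` modulo the core containing the image of `u`, with one class of
involutions. -/
theorem relIndex_mul (C : Ctx S t E E₀) {x : G}
    (hxS : x ∈ centralizer ((S : Subgroup G) : Set G)) (hxo : Odd (orderOf x))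
    {K : Subgroup (Quo (centralizer ({x} : Set G)))} (hKn : K.Normal)
    (v : ↥K) (hv : (v : Quo (centralizer ({x} : Set G))) =
      qm _ ⟨t, Cent.sylow_le_centralizer hxS C.mem⟩) (hv2 : orderOf v = 2)
    (hconj : ∀ a b : ↥K, orderOf a = 2 → orderOf b = 2 → IsConj a b) :
    (centralizer ({x, t} : Set G)).relIndex (centralizer ({x} : Set G)) *
      Nat.card ↥(centralizer ({v} : Set ↥K)) = Nat.card ↥K := by
  haveI := hKn
  set H := centralizer ({(v : Quo (centralizer ({x} : Set G)))} : Set _) with hH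
  have hcomap : H.comap (qm _) =
      (centralizer ({x, t} : Set G)).subgroupOf (centralizer ({x} : Set G)) := by
    ext g
    rw [mem_comap, hH, hv, mem_centralizer_singleton_iff, mem_subgroupOf, mem_centralizer_pair]
    constructor
    · intro h
      exact ⟨mem_centralizer_singleton_iff.1 g.2, mul_inv_eq_iff_eq_mul.1
        (Cent.conj_eq_of_qm C.jr hxS hxo g.2 C.mem C.mem (mul_inv_eq_iff_eq_mul.2 h))⟩
    · rintro ⟨-, h⟩
      rw [← map_mul, ← map_mul]
      exact congrArg _ (Subtype.ext h)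
  have hr : (centralizer ({x, t} : Set G)).relIndex (centralizer ({x} : Set G)) = H.index := by
    rw [relIndex, ← hcomap, index_comap_of_surjective H (qm_surjective _)]
  have htop : H ⊔ K = ⊤ := by
    refine eq_top_iff.2 fun y _ => ?_
    have hy : y * v * y⁻¹ ∈ K := hKn.conj_mem _ v.2 y
    obtain ⟨c, hc⟩ := isConj_iff.1 (hconj v ⟨_, hy⟩ hv2 (by
      rw [Subgroup.orderOf_mk, Involutions.Basic.orderOf_conj_eq, Subgroup.orderOf_coe, hv2]))
    have hc' : (c : Quo (centralizer ({x} : Set G))) * v * (c : Quo (centralizer ({x} : Set G)))⁻¹ =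
        y * v * y⁻¹ := congrArg Subtype.val hc
    have h1 : (c : Quo (centralizer ({x} : Set G)))⁻¹ * y ∈ H := by
      refine mem_centralizer_singleton_iff.2 ?_
      calc (c : Quo (centralizer ({x} : Set G)))⁻¹ * y * v
          = (c : Quo (centralizer ({x} : Set G)))⁻¹ * (y * v * y⁻¹) * y := by group
        _ = v * ((c : Quo (centralizer ({x} : Set G)))⁻¹ * y) := by rw [← hc']; group
    have := mul_mem (mem_sup_right c.2 : (c : Quo (centralizer ({x} : Set G))) ∈ H ⊔ K)
      (mem_sup_left h1)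
    rwa [mul_inv_cancel_left] at this
  have hKH : (centralizer ({v} : Set ↥K)).map K.subtype = K ⊓ H := by
    ext y
    constructor
    · rintro ⟨z, hz, rfl⟩
      exact ⟨z.2, mem_centralizer_singleton_iff.2
        (congrArg Subtype.val (mem_centralizer_singleton_iff.1 hz))⟩
    · rintro ⟨hy, hyH⟩
      exact ⟨⟨y, hy⟩, mem_centralizer_singleton_iff.2 (Subtype.ext
        (mem_centralizer_singleton_iff.1 hyH)), rfl⟩
  have h1 : (K.subgroupOf H).index = K.index := by
    show K.relIndex H = K.index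
    rw [← relIndex_top_right K, ← htop, relIndex_sup_right]
  have h2 := (K.subgroupOf H).card_mul_index
  rw [h1, ← Subgroup.card_map_of_injective H.subtype_injective, subgroupOf_map_subtype,
    ← hKH, Subgroup.card_map_of_injective K.subtype_injective] at h2
  have h3 := H.card_mul_index
  rw [← h2, ← K.card_mul_index, ← hr, mul_right_comm] at h3
  rw [mul_comm]
  exact Nat.eq_of_mul_eq_mul_right (Nat.pos_of_ne_zero index_ne_zero_of_finite) h3

/-- In `PSL(2, 8)`. -/
theorem even_facts {L : Type u} [Group L] [Finite L] (hev : IsEvenType L)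
    (hL : PropKnownFacts.{u}) (h504 : Nat.card L = 504) :
    (∀ a b : L, orderOf a = 2 → orderOf b = 2 → IsConj a b) ∧
      ∀ v : L, orderOf v = 2 → Nat.card ↥(centralizer ({v} : Set L)) = 8 := by
  haveI : Fact (Nat.Prime 2) := ⟨Nat.prime_two⟩
  have hf := hL.1 L (Or.inl hev)
  have h8 : ∀ P : Sylow 2 L, Nat.card ↥(P : Subgroup L) = 8 := fun P => by
    have := SmallGroups.Sylow.card_sylow_eq P (a := 3) (m := 63) (by rw [h504]; norm_num)
      (by norm_num)
    exact this.trans (by norm_num)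
  refine ⟨fun a b ha hb => ?_, fun v hv => ?_⟩
  · obtain ⟨P⟩ : Nonempty (Sylow 2 L) := inferInstance
    have key : ∀ c : L, orderOf c = 2 → ∃ g : L, g * c * g⁻¹ ∈ (P : Subgroup L) ∧ g * c * g⁻¹ ≠ 1 := by
      intro c hc
      obtain ⟨Q, hQ⟩ := (IsPGroup.of_card (n := 1) (by rw [Nat.card_zpowers, hc, pow_one]) :
        IsPGroup 2 ↥(zpowers c)).exists_le_sylow
      obtain ⟨g, hg⟩ := MulAction.exists_smul_eq L Q P
      refine ⟨g, ?_, fun h => ?_⟩
      · rw [← hg, Sylow.coe_subgroup_smul]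
        exact ⟨c, hQ (mem_zpowers c), rfl⟩
      · rw [conj_eq_one_iff.1 h, orderOf_one] at hc
        omega
    obtain ⟨g, hg, hg1⟩ := key a ha
    obtain ⟨h, hh, hh1⟩ := key b hb
    obtain ⟨n, -, -, hn⟩ := hf.torus P
    obtain ⟨k, hk⟩ := hn _ hg hg1 _ hh hh1
    refine isConj_iff.2 ⟨h⁻¹ * n ^ k * g, ?_⟩
    rw [show h⁻¹ * n ^ k * g * a * (h⁻¹ * n ^ k * g)⁻¹ =
      h⁻¹ * (n ^ k * (g * a * g⁻¹) * (n ^ k)⁻¹) * h by group, hk]
    group
  · obtain ⟨n, F, i1, i2, hn, hF, ⟨e⟩⟩ := hev
    obtain ⟨p, hp⟩ := CharP.exists F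
    haveI := hp
    obtain ⟨k, hpp, hk⟩ := FiniteField.card F p
    obtain rfl : p = 2 := (Nat.prime_dvd_prime_iff_eq hpp Nat.prime_two).1
      (hpp.dvd_of_dvd_pow (hF ▸ hk ▸ dvd_pow_self p k.pos.ne'))
    have hexp : ∀ z ∈ centralizer ({v} : Set L), z * z = 1 := by
      intro z hz
      apply e.injective
      rw [map_mul, map_one]
      exact Known.psl_exponent_two (u := e v) (by rw [MulEquiv.orderOf_eq, hv])
        (by rw [← map_mul, ← map_mul, mem_centralizer_singleton_iff.1 hz])
    have h2 : IsPGroup 2 ↥(centralizer ({v} : Set L)) := fun z =>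
      ⟨1, Subtype.ext (by rw [pow_one, pow_two]; exact hexp z z.2)⟩
    obtain ⟨P, hP⟩ := h2.exists_le_sylow
    have hab := (hf.elementary P).1
    have hle : (P : Subgroup L) ≤ centralizer ({v} : Set L) := fun z hz =>
      mem_centralizer_singleton_iff.2 (setLike_mul_comm (s := (P : Subgroup L)) hz
        (hP (mem_centralizer_singleton_iff.2 rfl)))
    rw [le_antisymm hP hle, h8 P]

/-- The index, by the order of the fixed field. -/
theorem relIndex_cases (hK : PropKnown.{u}) (hL : PropKnownFacts.{u}) (hO : PropOrder.{u})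
    (hIH : SmallerNoField G) (C : Ctx S t E E₀) {x : G} (hx : x ∈ fieldPart S) (hx1 : x ≠ 1) :
    ∃ (F : Type) (_ : Field F) (_ : Fintype F) (q₀ : ℕ),
      Nonempty (↥E₀ ≃* Matrix.ProjectiveSpecialLinearGroup (Fin 2) F) ∧
      Fintype.card F = q₀ ^ orderOf x ∧
      2 * Nat.card ↥(E₀ ⊓ centralizer ({x} : Set G)) = q₀ * (q₀ - 1) * (q₀ + 1) ∧
      ((q₀ = 3 ∧ ((centralizer ({x, t} : Set G)).relIndex (centralizer ({x} : Set G)) = 7 ∨
          (centralizer ({x, t} : Set G)).relIndex (centralizer ({x} : Set G)) = 63)) ∨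
        (q₀ = 5 ∧ (centralizer ({x, t} : Set G)).relIndex (centralizer ({x} : Set G)) = 1463) ∨
        (∃ k : ℕ, 1 ≤ k ∧ q₀ = 3 ^ (2 * k + 1) ∧
          (centralizer ({x, t} : Set G)).relIndex (centralizer ({x} : Set G)) =
            q₀ ^ 2 * (q₀ ^ 2 - q₀ + 1))) := by
  haveI : Fact (Nat.Prime 2) := ⟨Nat.prime_two⟩
  have hxS := fieldPart_le_centralizer S hx
  have hxo : Odd (orderOf x) := odd_orderOf_mem (odd_fieldPart S) hx
  obtain ⟨F, i1, i2, F₀, j1, j2, hF, -, -, hm0, hq, ⟨e₀⟩, hcase⟩ :=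
    Cent.fixed_cases C.jr C.ord C.mem C.cent hxS hxo
  have hodd : Odd (Fintype.card F₀) := Nat.odd_iff.2 (by omega)
  have hL2 : 2 * Nat.card ↥(E₀ ⊓ centralizer ({x} : Set G)) =
      Fintype.card F₀ * (Fintype.card F₀ - 1) * (Fintype.card F₀ + 1) := by
    rw [Nat.card_congr e₀.toEquiv]
    exact Linear.two_mul_card_PSL_two_of_odd hodd
  refine ⟨F, i1, i2, Fintype.card F₀, hF, hq, hL2, ?_⟩
  set r := (centralizer ({x, t} : Set G)).relIndex (centralizer ({x} : Set G)) with hrdef
  rcases hcase with ⟨h3, h12⟩ | ⟨-, hot⟩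
  · refine Or.inl ⟨h3, ?_⟩
    rcases (Cent.centralizer_small C.jr C.ord C.mem C.cent hxS hxo hK hL hx1 h12).2 with
      ⟨-, hle⟩ | ⟨K, -, hKn, -, -, hTK, hev, h504⟩
    · left
      have heq : centralizer ({x} : Set G) = normalizer ((S : Subgroup G) : Set G) :=
        le_antisymm hle fun n hn => mem_centralizer_singleton_iff.2 (C.comm_normalizer hn hx)
      rw [hrdef, ← C.relIndex_centralizer_u, heq]
      have : centralizer ({x, t} : Set G) = normalizer ((S : Subgroup G) : Set G) ⊓
          centralizer ({t} : Set G) := by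
        rw [← heq]
        ext g
        rw [mem_inf, mem_centralizer_pair, mem_centralizer_singleton_iff,
          mem_centralizer_singleton_iff]
      rw [this, inf_relIndex_left]
    · right
      have hv := (Subgroup.orderOf_mk (H := K) _
        (hTK (qm_mem_quoSylow (Cent.sylow_le_centralizer hxS) C.mem)))
      obtain ⟨hconj, h8⟩ := even_facts hev hL h504
      set v : ↥K := ⟨_, hTK (qm_mem_quoSylow (Cent.sylow_le_centralizer hxS) C.mem)⟩ with hvdef
      have hv2 : orderOf v = 2 := by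
        refine orderOf_eq_prime (Subtype.ext ?_) fun h => ?_
        · show qm _ ⟨t, Cent.sylow_le_centralizer hxS C.mem⟩ ^ 2 = 1
          rw [← map_pow]
          refine (qm_eq_one_iff (pow_mem (Cent.sylow_le_centralizer hxS C.mem) 2)).2 ?_
          rw [pow_two, C.sq C.mem]
          exact one_mem _
        · exact qm_ne_one (Cent.sylow_le_centralizer hxS) C.mem C.ne_one (congrArg Subtype.val h)
      have := relIndex_mul C hxS hxo hKn v rfl hv2 hconj
      rw [← hrdef, h8 v hv2, h504] at this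
      omega
  · right
    obtain ⟨K, -, hKn, -, -, hTK, -, hJR, huniq⟩ :=
      Cent.centralizer_large C.jr C.ord C.mem C.cent hxS hxo hK hL hx1 hot
    set v : ↥K := ⟨_, hTK (qm_mem_quoSylow (Cent.sylow_le_centralizer hxS) C.mem)⟩ with hvdef
    have hv2 : orderOf v = 2 := by
      refine orderOf_eq_prime (Subtype.ext ?_) fun h => ?_
      · show qm _ ⟨t, Cent.sylow_le_centralizer hxS C.mem⟩ ^ 2 = 1
        rw [← map_pow]
        refine (qm_eq_one_iff (pow_mem (Cent.sylow_le_centralizer hxS C.mem) 2)).2 ?_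
        rw [pow_two, C.sq C.mem]
        exact one_mem _
      · exact qm_ne_one (Cent.sylow_le_centralizer hxS) C.mem C.ne_one (congrArg Subtype.val h)
    obtain ⟨E', E₀', h'⟩ := hJR.centralizer v hv2
    have hlt : Nat.card ↥K < Nat.card G :=
      card_subgroup_quotient_lt (Cent.centralizer_ne_top C.jr hx1) _ K
    have hEE := hIH ↥K hlt hJR v hv2 E' E₀' h'
    obtain ⟨F', k1, k2, ⟨e'⟩, hF'⟩ := order_of_smaller hO hIH hlt hJR hv2 h'
    obtain ⟨eL⟩ := Cent.fixedBar_equiv C.jr C.ord C.mem C.cent hxS hxo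
    have hE₀ : Nat.card ↥E₀' = Nat.card ↥(E₀ ⊓ centralizer ({x} : Set G)) := by
      rw [Nat.card_congr eL.toEquiv, ← huniq v rfl E' E₀' h',
        Subgroup.card_map_of_injective K.subtype_injective]
    have hCv : Nat.card ↥(centralizer ({v} : Set ↥K)) =
        Fintype.card F₀ * (Fintype.card F₀ - 1) * (Fintype.card F₀ + 1) := by
      rw [sec_card h'.1 hv2, hEE, hE₀, hL2]
    have hmul := relIndex_mul C hxS hxo hKn v rfl hv2 hJR.conj
    rw [← hrdef, hCv] at hmul
    have hodd' : Odd (Fintype.card F') := by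
      rcases hF' with ⟨k, -, hkc, -⟩ | ⟨h5, -⟩
      · rw [hkc]; exact (show Odd 3 by decide).pow
      · rw [h5]; decide
    have hqq : Fintype.card F₀ = Fintype.card F' := by
      have h2 := Linear.two_mul_card_PSL_two_of_odd (F := F') hodd'
      rw [← Nat.card_congr e'.toEquiv, hE₀, hL2] at h2
      have hmono : ∀ {a b : ℕ}, a < b → 2 ≤ a → a * (a - 1) * (a + 1) < b * (b - 1) * (b + 1) :=
        fun {a b} hab ha => Nat.mul_lt_mul_of_lt_of_le
          (Nat.mul_lt_mul_of_lt_of_le hab (by omega) (by omega)) (by omega) (by omega)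
      have h0 : 2 ≤ Fintype.card F₀ := Fintype.one_lt_card
      have h0' : 2 ≤ Fintype.card F' := Fintype.one_lt_card
      rcases lt_trichotomy (Fintype.card F₀) (Fintype.card F') with h | h | h
      · exact absurd h2 (hmono h h0).ne
      · exact h
      · exact absurd h2 (hmono h h0').ne'
    rw [hqq] at hmul ⊢
    rcases hF' with ⟨k, hk, hkc, hcard⟩ | ⟨h5, hJ1⟩
    · refine Or.inr ⟨k, hk, hkc, ?_⟩
      rw [← hkc] at hcard
      rw [hcard] at hmul
      set Q := Fintype.card F' with hQ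
      have hQ27 : 27 ≤ Q := by
        rw [hkc]
        calc 27 = 3 ^ 3 := by norm_num
          _ ≤ 3 ^ (2 * k + 1) := Nat.pow_le_pow_right (by norm_num) (by omega)
      obtain ⟨a, ha⟩ : ∃ a, Q = a + 1 := ⟨Q - 1, by omega⟩
      obtain ⟨A, hA⟩ : ∃ A, A = Q ^ 2 - Q + 1 := ⟨_, rfl⟩
      have hAQ : A + Q = Q ^ 2 + 1 := by
        have : Q ≤ Q ^ 2 := Nat.le_self_pow two_ne_zero Q
        omega
      have hcube : Q ^ 3 + 1 = (Q + 1) * A := by
        have h1 : (Q + 1) * (A + Q) = (Q + 1) * (Q ^ 2 + 1) := by rw [hAQ]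
        nlinarith
      rw [← hA]
      refine Nat.eq_of_mul_eq_mul_right (show 0 < Q * (Q - 1) * (Q + 1) by
        have : 0 < Q - 1 := by omega
        positivity) ?_
      rw [hmul, hcube]
      ring
    · refine Or.inl ⟨h5, ?_⟩
      rw [hJ1.2, h5] at hmul
      omega

end Cfsg.Agent.Lib.Walter.NoField.Small
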